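import Cfsg.Agent.H256.ZTool
import Cfsg.Agent.StdAlt.Six.AutLemmas
import Cfsg.Agent.OddCyclic.EmpFFAlt
import Mathlib.GroupTheory.SpecificGroups.Alternating.Centralizer

/-!
# The `Z*_p` theorem: the alternating groups

`row` : `Row p A_n` for `5 ≤ n` and `p` an odd prime.
-/

set_option autoImplicit false

namespace Cfsg.Agent.H256.RowAlt

open Subgroup Cfsg Equiv Equiv.Perm Cfsg.Agent.H256.ZBasic Cfsg.Agent.H256.ZRed
  Cfsg.Agent.H256.ZTool

universe u

theorem exists_pow_eq {X : Type*} [Group X] {p n : ℕ} {x : X} (hx : orderOf x = p)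
    (hn : n.Coprime p) : ∃ k : ℕ, (x ^ n) ^ k = x := by
  obtain ⟨k, hk⟩ := exists_pow_eq_self_of_coprime (n := n) (x := x) (by rwa [hx])
  exact ⟨k, hk⟩

/-- if the fourth powers of all automorphisms are inner, those of odd prime order are inner -/
theorem inner_of_four {X : Type*} [Group X] {p : ℕ} (hp : p.Prime) (hp2 : p ≠ 2)
    (h : ∀ α : MulAut X, ∃ g : X, α ^ 4 = MulAut.conj g) (α : MulAut X) (hα : orderOf α = p) :
    ∃ g : X, α = MulAut.conj g := by
  obtain ⟨k, hk⟩ := exists_pow_eq (n := 4) hα (by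
    have h1 : Nat.Coprime 2 p := (Nat.coprime_primes Nat.prime_two hp).2 hp2.symm
    have h2 : (4 : ℕ) = 2 ^ 2 := by norm_num
    rw [h2]
    exact h1.pow_left 2)
  obtain ⟨g, hg⟩ := h α
  exact ⟨g ^ k, by rw [map_pow, ← hg, hk]⟩

theorem sq_mem {n : ℕ} (σ : Perm (Fin n)) : σ * σ ∈ alternatingGroup (Fin n) := by
  rw [Equiv.Perm.mem_alternatingGroup, map_mul]
  exact Int.units_mul_self _

/-- the square of an automorphism induced by a permutation is inner -/
theorem sq_inner {n : ℕ} (α : MulAut (alternatingGroup (Fin n))) (σ : Perm (Fin n))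
    (hσ : ∀ x : alternatingGroup (Fin n), (α x : Perm (Fin n)) = σ * x * σ⁻¹) :
    ∃ g : alternatingGroup (Fin n), α ^ 2 = MulAut.conj g := by
  refine ⟨⟨σ * σ, sq_mem σ⟩, ?_⟩
  apply MulEquiv.ext
  intro x
  apply Subtype.ext
  rw [pow_two, MulAut.mul_apply, hσ, hσ]
  change σ * (σ * (x : Equiv.Perm (Fin n)) * σ⁻¹) * σ⁻¹ =
    σ * σ * (x : Equiv.Perm (Fin n)) * (σ * σ)⁻¹
  group

theorem four_inner {n : ℕ} (hn : 5 ≤ n) (α : MulAut (alternatingGroup (Fin n))) :
    ∃ g : alternatingGroup (Fin n), α ^ 4 = MulAut.conj g := by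
  have key : (∃ g : alternatingGroup (Fin n), α ^ 2 = MulAut.conj g) ∨
      ∃ g : alternatingGroup (Fin n), (α ^ 2) ^ 2 = MulAut.conj g := by
    rcases Nat.lt_or_ge n 7 with h7 | h7
    · have hn' : n = 5 ∨ n = 6 := by omega
      rcases hn' with rfl | rfl
      · obtain ⟨σ, hσ⟩ := OddCyclic.EmpFFAlt.exists_conj α
        exact Or.inl (sq_inner α σ hσ)
      · right
        have h2 : StdAlt.Six.NS (α ^ 2) := by
          rw [pow_two]
          by_cases h : StdAlt.Six.NS α
          · exact h.mul h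
          · exact StdAlt.Six.NS.mul_of_not h h
        obtain ⟨σ, hσ⟩ := h2
        exact sq_inner _ σ hσ
    · obtain ⟨m, rfl⟩ : ∃ m, n = m + 2 := ⟨n - 2, by omega⟩
      obtain ⟨σ, hσ⟩ := StandardComponent.AltAut.exists_conj (m := m) (by omega) α
      exact Or.inl (sq_inner α σ hσ)
  rcases key with ⟨g, hg⟩ | ⟨g, hg⟩
  · exact ⟨g ^ 2, by rw [map_pow, ← hg, ← pow_mul]⟩
  · exact ⟨g, by rw [← hg, ← pow_mul]⟩

/-- an element of odd prime order of the symmetric group is conjugate to its `k`-th powers -/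
theorem exists_conj_pow {n p k : ℕ} (hp : p.Prime) (hk : k.Coprime p) {y : Perm (Fin n)}
    (hy : orderOf y = p) : ∃ σ : Perm (Fin n), σ * y * σ⁻¹ = y ^ k := by
  have hyk : orderOf (y ^ k) = p := by
    rw [Nat.Coprime.orderOf_pow (by rwa [hy, Nat.coprime_comm]), hy]
  have hs : (y ^ k).support = y.support := by
    apply le_antisymm (Equiv.Perm.support_pow_le y k)
    obtain ⟨j, hj⟩ := exists_pow_eq hy hk
    conv_lhs => rw [← hj]
    exact Equiv.Perm.support_pow_le _ j
  obtain ⟨a, ha⟩ := Equiv.Perm.cycleType_prime_order (σ := y) (by rwa [hy])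
  obtain ⟨b, hb⟩ := Equiv.Perm.cycleType_prime_order (σ := y ^ k) (by rwa [hyk])
  have h1 := Equiv.Perm.sum_cycleType y
  have h2 := Equiv.Perm.sum_cycleType (y ^ k)
  rw [ha, hy, Multiset.sum_replicate, smul_eq_mul] at h1
  rw [hb, hyk, Multiset.sum_replicate, smul_eq_mul, hs, ← h1] at h2
  have h3 : b + 1 = a + 1 := Nat.eq_of_mul_eq_mul_right hp.pos h2
  have h4 : IsConj y (y ^ k) := by
    rw [Equiv.Perm.isConj_iff_cycleType_eq, ha, hb, hy, hyk, h3]
  rw [isConj_iff] at h4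
  exact h4

/-- no isolated elements of odd prime order in `A_n`, `n ≥ 5` -/
theorem not_isolated {n p : ℕ} (hn : 5 ≤ n) (hp : p.Prime) (hp2 : p ≠ 2)
    {y : alternatingGroup (Fin n)} (hy : orderOf y = p) : ¬ IsIsolated y := by
  intro hiso
  have hy' : orderOf (y : Perm (Fin n)) = p := by
    rw [← hy]
    exact orderOf_injective (alternatingGroup (Fin n)).subtype (subtype_injective _) y
  by_cases h3 : p = 3
  · subst h3
    obtain ⟨σ, hσ⟩ := exists_conj_pow (k := 2) hp (by norm_num) hy'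
    -- an even such permutation
    obtain ⟨τ, hτ, hτy⟩ : ∃ τ ∈ alternatingGroup (Fin n),
        τ * (y : Perm (Fin n)) * τ⁻¹ = (y : Perm (Fin n)) ^ 2 := by
      by_cases hs : σ ∈ alternatingGroup (Fin n)
      · exact ⟨σ, hs, hσ⟩
      have hc : ¬ Subgroup.centralizer ({(y : Perm (Fin n))} : Set (Perm (Fin n))) ≤
          alternatingGroup (Fin n) := by
        rw [Equiv.Perm.centralizer_le_alternating_iff]
        rintro ⟨-, h1, h2⟩
        obtain ⟨a, ha⟩ := Equiv.Perm.cycleType_prime_order (σ := (y : Perm (Fin n)))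
          (by rwa [hy'])
        have h4 := h2 3
        rw [ha, hy', Multiset.count_replicate_self] at h4
        rw [ha, hy', Multiset.sum_replicate, smul_eq_mul, Fintype.card_fin] at h1
        omega
      rw [SetLike.not_le_iff_exists] at hc
      obtain ⟨ρ, hρ, hρn⟩ := hc
      rw [mem_centralizer_singleton_iff] at hρ
      refine ⟨σ * ρ, ?_, ?_⟩
      · rw [Equiv.Perm.mem_alternatingGroup] at hs hρn ⊢
        rw [map_mul, (Int.units_eq_one_or _).resolve_left hs,
          (Int.units_eq_one_or _).resolve_left hρn]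
        rfl
      · rw [← hσ]
        calc σ * ρ * (y : Perm (Fin n)) * (σ * ρ)⁻¹ = σ * (ρ * y) * ρ⁻¹ * σ⁻¹ := by group
          _ = σ * (y * ρ) * ρ⁻¹ * σ⁻¹ := by rw [hρ]
          _ = _ := by group
    have h1 : (⟨τ, hτ⟩ : alternatingGroup (Fin n)) * y * (⟨τ, hτ⟩ : alternatingGroup (Fin n))⁻¹ =
        y ^ 2 := Subtype.ext (by simpa using hτy)
    have h2 := hiso ⟨τ, hτ⟩ (by rw [h1]; exact (Commute.refl y).pow_right 2)
    rw [h1] at h2
    have h3 : y = 1 := by
      rw [pow_two] at h2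
      exact mul_eq_left.1 h2
    rw [h3, orderOf_one] at hy
    exact absurd hy (by norm_num)
  · obtain ⟨σ, hσ⟩ := exists_conj_pow (k := 2) hp
      ((Nat.coprime_primes Nat.prime_two hp).2 hp2.symm) hy'
    have h1 : (⟨σ * σ, sq_mem σ⟩ : alternatingGroup (Fin n)) * y *
        (⟨σ * σ, sq_mem σ⟩ : alternatingGroup (Fin n))⁻¹ = y ^ 4 := by
      apply Subtype.ext
      change σ * σ * (y : Perm (Fin n)) * (σ * σ)⁻¹ = ((y ^ 4 : alternatingGroup (Fin n)) : Perm (Fin n))
      rw [SubmonoidClass.coe_pow]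
      calc σ * σ * (y : Perm (Fin n)) * (σ * σ)⁻¹ = σ * (σ * y * σ⁻¹) * σ⁻¹ := by group
        _ = (σ * y * σ⁻¹) ^ 2 := by rw [hσ, ← hσ, conj_pow, hσ]
        _ = (y : Perm (Fin n)) ^ 4 := by rw [hσ, ← pow_mul]
    have h2 := hiso ⟨σ * σ, sq_mem σ⟩ (by rw [h1]; exact (Commute.refl y).pow_right 4)
    rw [h1] at h2
    have h4 : y ^ 3 = 1 := by
      have h5 : y ^ 3 * y = 1 * y := by rw [← pow_succ, h2, one_mul]
      exact mul_right_cancel h5
    have h5 : p ∣ 3 := by rw [← hy]; exact orderOf_dvd_of_pow_eq_one h4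
    exact h3 ((Nat.prime_dvd_prime_iff_eq hp Nat.prime_three).1 h5)

/-- **The row of `A_n`, `n ≥ 5`.** -/
theorem row {n p : ℕ} (hn : 5 ≤ n) (hp : p.Prime) (hp2 : p ≠ 2) :
    Row.{u} p (alternatingGroup (Fin n)) := by
  have : Fact p.Prime := ⟨hp⟩
  exact @row_of p _ (alternatingGroup (Fin n)) _
    (fun α hα => inner_of_four hp hp2 (four_inner hn) α hα)
    (fun y hy => not_isolated hn hp hp2 hy.ord hy.iso)

end Cfsg.Agent.H256.RowAlt
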