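import Cfsg.Agent.H256.SporC
import Cfsg.Agent.NotCT.Orders
import Cfsg.Agent.Foote.Row.JThree

/-!
# The `Z*_p` theorem, `p` odd: the rows `J2`, `J3`
-/

set_option autoImplicit false

namespace Cfsg.Agent.H256.RowSpor

open Subgroup Cfsg Cfsg.Agent.H256.ZBasic Cfsg.Agent.H256.ZRed Cfsg.Agent.H256.ZTool
  Cfsg.Agent.H256.OddInner Cfsg.Agent.H256.Spor

universe u v

variable {K : Type v} [Group K] {p : ℕ}

theorem j3 (h : Spor.IsoJ3 K) (hp : p.Prime) (hp2 : p ≠ 2) : Row.{u} p K := by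
  have hf : Fact p.Prime := ⟨hp⟩
  refine @row_spor K _ p hp hp2 (OddInner.j3 h) fun hfin _ _ _ hc y hy => ?_
  rw [NotCT.Orders.j3 h] at hc
  obtain ⟨q, hq, hqp⟩ := mem_of_cube hp [(2, 7), (3, 5), (5, 1), (17, 1), (19, 1)] (by decide +kernel) (by norm_num)
    ((dvd_pow_self p three_ne_zero).trans hc)
  obtain ⟨z, Q, v, ρ, M, hcC, -, hs⟩ := Foote.Row.JThree.sheet' K h
  refine @false_of_simple_quot K _ p y hfin hf hy hp2 z hs.zz hs.z1 hs.syl _ _ (centralizer_ne_top hy hs.z1)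
    hs.cen (idx_of_rel (Or.inl (relIndex_self _))) hs.RP hs.R2 hs.Rn hs.perf (fun N hN hR hn => ?_) ?_
  · rcases KFacts.QMinus.normal_cases' M N hN hn with h1 | h1
    · exact Or.inl h1
    · right
      rwa [sup_eq_left.2 hR] at h1
  · rw [hcC]
    fin_cases hq <;> simp only at hqp <;> subst hqp <;>
      first | exact absurd rfl hp2 | (norm_num; done) | exact absurd hc (by norm_num)

theorem j2 (h : Spor.IsoJ2 K) (hp : p.Prime) (hp2 : p ≠ 2) : Row.{u} p K := by
  have hf : Fact p.Prime := ⟨hp⟩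
  refine @row_spor K _ p hp hp2 (OddInner.j2 h) fun hfin _ _ _ hc y hy => ?_
  rw [NotCT.Orders.j2 h] at hc
  obtain ⟨q, hq, hqp⟩ := mem_of_cube hp [(2, 7), (3, 3), (5, 2), (7, 1)] (by decide +kernel) (by norm_num)
    ((dvd_pow_self p three_ne_zero).trans hc)
  obtain ⟨t, u, Q, v, ρ, D⟩ := KFacts.J2.Facts.exists_dat_of h
  have M := D.M
  have hs := KFacts.J2.SheetX.sheetX D
  refine @false_of_simple_quot K _ p y hfin hf hy hp2 t hs.zz hs.z1 hs.syl _ _ (centralizer_ne_top hy hs.z1)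
    hs.cen (idx_of_rel (Or.inl (relIndex_self _))) hs.RP hs.R2 hs.Rn hs.perf (fun N hN hR hn => ?_) ?_
  · rcases KFacts.QMinus.normal_cases' M N hN hn with h1 | h1
    · exact Or.inl h1
    · right
      rwa [sup_eq_left.2 hR] at h1
  · rw [D.cardC]
    fin_cases hq <;> simp only at hqp <;> subst hqp <;>
      first | exact absurd rfl hp2 | (norm_num; done) | exact absurd hc (by norm_num)

end Cfsg.Agent.H256.RowSpor
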