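import Cfsg.Agent.H256.RowS1
import Cfsg.Agent.H256.RowS3
import Cfsg.Agent.QTNorm.Main
import Cfsg.Agent.TitsK.Facts
import Cfsg.Agent.CpAutTits.Row

/-!
# The `Z*_p` theorem, `p` odd: the row of the Tits group
-/

set_option autoImplicit false

namespace Cfsg.Agent.H256.RowSpor

open Subgroup Cfsg Cfsg.Agent.H256.ZBasic Cfsg.Agent.H256.ZRed Cfsg.Agent.H256.ZTool
  Cfsg.Agent.H256.OddInner Cfsg.Agent.H256.Spor

universe u v w

variable {K : Type v} [Group K] {p : ℕ}

section Tits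

open Cfsg.Agent.TitsK Cfsg.Lie Cfsg.Agent.ChevalleyStructure.TwF4.Tables
open Cfsg.Agent.FourTwo.Base hiding bar bar_lt
open Cfsg.Agent.FourTwo.BN Cfsg.Agent.FourTwo.Comm Cfsg.Agent.FourTwo.Classes
open Cfsg.Agent.FourTwo.UCode (mulU invU conjU lets colW colF force force_eq mem_lets wel_lets wel_mem)

theorem ya_sq : ya * ya = 1 := by
  have h : mulU 513 513 = 0 := by decide +kernel
  rw [ya_eq, ← ec_mulU, h, ec_zero]

theorem na_conj_d : na * d * na⁻¹ = d := by
  have h := nw_conj_ec (w := [0, 3]) (e := 2129920) (by decide) (by decide +kernel)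
  have e : reflW [0, 3] 2129920 = 2129920 := by decide +kernel
  rw [e] at h
  exact h

theorem ya_conj_d : ya * d * ya⁻¹ = d := by
  have h : conjU 513 2129920 = 2129920 := by decide +kernel
  rw [ya_eq]
  unfold d
  rw [← ec_conjU, h]

theorem yam_sq : yam * yam = 1 := by
  rw [← na_conj_ya]
  calc na * ya * na⁻¹ * (na * ya * na⁻¹) = na * (ya * ya) * na⁻¹ := by group
    _ = 1 := by rw [ya_sq]; group

theorem na_sq : na * na = 1 := by
  rw [na_eq]
  calc ya * yam * ya * (ya * yam * ya) = ya * yam * (ya * ya) * (yam * ya) := by group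
    _ = ya * (yam * yam) * ya := by rw [ya_sq]; group
    _ = 1 := by rw [yam_sq, mul_one, ya_sq]

theorem t_cube : (ya * na) ^ 3 = 1 := by
  have ni : na⁻¹ = na := inv_eq_of_mul_eq_one_left na_sq
  have h1 : yam = na * ya * na := by rw [← na_conj_ya, ni]
  have h2 : na = ya * (na * ya * na) * ya := by rw [← h1]; exact na_eq
  calc (ya * na) ^ 3 = ya * (na * ya * na) * ya * na := by simp only [pow_succ, pow_zero, one_mul]; group
    _ = na * na := by rw [← h2]
    _ = 1 := na_sq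

theorem t_ne : ya * na ≠ 1 := by
  intro h
  have h1 : na = ya := by
    have : ya * (ya * na) = ya := by rw [h, mul_one]
    rw [← mul_assoc, ya_sq, one_mul] at this
    exact this
  have h2 := na_conj_z
  rw [h1] at h2
  have h3 := z_central ya_mem
  rw [h3] at h2
  have h4 := ec_inj (by norm_num) (by norm_num) h2
  norm_num at h4

end Tits

theorem dvd_cent_aux {G : Type*} [Group G] {T : Subgroup G} {t d : G} (ht : t ∈ T) (hd : d ∈ T) (h3 : t ^ 3 = 1)
    (h1 : t ≠ 1) (hc : t * d = d * t) : 3 ∣ Nat.card (centralizer ({(⟨d, hd⟩ : T)} : Set T)) := by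
  have hc' : (⟨t, ht⟩ : T) ∈ centralizer ({(⟨d, hd⟩ : T)} : Set T) := by
    rw [mem_centralizer_singleton_iff]
    exact Subtype.ext hc
  have ho : orderOf (⟨⟨t, ht⟩, hc'⟩ : centralizer ({(⟨d, hd⟩ : T)} : Set T)) = 3 := by
    have : Fact (Nat.Prime 3) := ⟨Nat.prime_three⟩
    rw [Subgroup.orderOf_mk, Subgroup.orderOf_mk]
    exact orderOf_eq_prime h3 h1
  rw [← ho]
  exact orderOf_dvd_natCard _

theorem comm_aux {G : Type*} [Group G] {a b d : G} (ha : a * d * a⁻¹ = d) (hb : b * d * b⁻¹ = d) :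
    a * b * d = d * (a * b) := by
  have h1 : b * d = d * b := mul_inv_eq_iff_eq_mul.1 hb
  have h2 : a * d = d * a := mul_inv_eq_iff_eq_mul.1 ha
  calc a * b * d = a * (b * d) := by group
    _ = (a * d) * b := by rw [h1]; group
    _ = d * (a * b) := by rw [h2]; group

theorem exists_inv_aux {G : Type*} [Group G] {T : Subgroup G} {L : Type*} [Group L] (e : L ≃* T) {t d : G}
    (ht : t ∈ T) (hd : d ∈ T) (h3 : t ^ 3 = 1) (h1 : t ≠ 1) (hc : t * d = d * t) (dd : d * d = 1) (d1 : d ≠ 1) :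
    ∃ s : L, s * s = 1 ∧ s ≠ 1 ∧ 3 ∣ Nat.card (centralizer ({s} : Set L)) :=
  exists_inv e (s := ⟨d, hd⟩) (Subtype.ext dd) (fun h => d1 (congrArg Subtype.val h))
    (dvd_cent_aux ht hd h3 h1 hc)

theorem oi_aux {G : Type*} [Group G] {T : Subgroup G} {L : Type*} [Group L] (e : L ≃* T)
    (h : (MulAut.conj : T →* MulAut T).range.index ∣ 2) : OI L :=
  OI.congr e (OI.of_le_two ((Nat.dvd_prime Nat.prime_two).1 h))

theorem selfN_aux {G H : Type*} [Group G] [Group H] [Finite G] (h : Nonempty (G ≃* H))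
    (hs : ∀ T : Sylow 2 H, normalizer ((T : Subgroup H) : Set H) ≤ (T : Subgroup H)) : QTNorm.SelfN G := by
  obtain ⟨f⟩ := h
  have hf2 := Finite.of_equiv G f.toEquiv
  exact QTNorm.SelfN.congr f.symm hs

/-- **the row of the Tits group** -/
theorem tits (h : Lie.IsoTits K) (hp : p.Prime) (hp2 : p ≠ 2) : Row.{u} p K := by
  have hf : Fact p.Prime := ⟨hp⟩
  obtain ⟨e⟩ := Cfsg.Agent.CpAutTits.Row.exists_equiv h
  have hfin : Finite K := by
    apply Nat.finite_of_card_ne_zero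
    rw [NotCT.Orders.tits h]; norm_num
  have hfLL : Finite Cfsg.Agent.FourTwo.Base.LL := by infer_instance
  have hi : OI K := oi_aux e Cfsg.Agent.TitsK.tdata.index_inn
  have hN : QTNorm.SelfN K := selfN_aux (H := Cfsg.Lie.TitsGroup) h QTNorm.self_tits
  suffices h0 : p ^ 3 ∣ Nat.card K → ∃ t : K, t * t = 1 ∧ t ≠ 1 ∧ p ∣ Nat.card (centralizer ({t} : Set K)) from
    @row_selfN K _ p hp hp2 hi hN h0
  intro hc
  rw [NotCT.Orders.tits h] at hc
  obtain ⟨q, hq, hqp⟩ := mem_of_cube hp [(2, 11), (3, 3), (5, 2), (13, 1)] (by decide +kernel) (by norm_num)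
    ((dvd_pow_self p three_ne_zero).trans hc)
  have h3 : ∃ s : K, s * s = 1 ∧ s ≠ 1 ∧ 3 ∣ Nat.card (centralizer ({s} : Set K)) :=
    exists_inv_aux e (mul_mem Cfsg.Agent.TitsK.ya_mem_TT Cfsg.Agent.TitsK.na_mem_TT)
      Cfsg.Agent.TitsK.d_mem_TT t_cube t_ne (comm_aux ya_conj_d na_conj_d) Cfsg.Agent.TitsK.d_sq
      Cfsg.Agent.TitsK.d_ne
  fin_cases hq <;> simp only at hqp <;> subst hqp <;>
    first | exact absurd rfl hp2 | exact h3 | exact absurd hc (by norm_num)

end Cfsg.Agent.H256.RowSpor
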