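import Cfsg.Agent.H256.ZMin
import Mathlib.GroupTheory.Transfer

/-!
# Minimal counterexamples to the `Z*_p` statement: tools

`MinCex p x` in `G`, `L = G'` (simple, `G = L⟨x⟩`, `C_G(L) = 1`).

* `MinCex.map` : transport along an isomorphism; `MinCex.conj`;
* `exists_conj_comm` : if `p ∣ |C_G(s)|`, some `y ∈ C_G(s)` of order `p` commutes with a conjugate of `x`;
* `exists_sylow_of_dvd` (T2) : `s` of prime order `ℓ ≠ p` with `p ∣ |C_G(s)|`: `x` normalizes a Sylow
  `ℓ`-subgroup of `G`;
* `not_comm_sylow` (T3) : if `x ∈ G'` then the Sylow `p`-subgroups are not abelian, in fact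
  `mem_commutator_sylow` : `x ∈ P'`;
* `mem_commutator_of_inner` : if all automorphisms of order `p` of `G'` are inner then `x ∈ G'`;
* `row_of` : the criterion for `Row p L`: no `MinCex` in `L` itself, and all automorphisms of order
  `p` of `L` inner.
-/

set_option autoImplicit false

namespace Cfsg.Agent.H256.ZTool

open Subgroup Cfsg Cfsg.Agent.H256.ZBasic Cfsg.Agent.H256.ZRed

universe u v

/-! ### Transport -/

section Map

variable {G : Type u} {H : Type v} [Group G] [Group H] {p : ℕ} {x : G}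

theorem inZStar_map (e : G ≃* H) (h : InZStar p x) : InZStar p (e x) := by
  intro g
  rw [← Lib.Cores.map_equiv_pPrimeCore e p]
  refine ⟨e.symm g * x * (e.symm g)⁻¹ * x⁻¹, h _, ?_⟩
  simp

theorem isolated_map (e : G ≃* H) (h : IsIsolated x) : IsIsolated (e x) := by
  intro g hc
  have h1 : Commute x (e.symm g * x * (e.symm g)⁻¹) := by
    have h2 := congrArg e.symm hc.eq
    rw [commute_iff_eq]
    simpa using h2
  have h3 := congrArg e (h _ h1)
  simpa using h3

theorem inZStar_congr (e : G ≃* H) {y : H} (hy : e x = y) : InZStar p x ↔ InZStar p y := by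
  subst hy
  refine ⟨inZStar_map e, fun h => ?_⟩
  have := inZStar_map e.symm h
  rwa [e.symm_apply_apply] at this

/-- Minimal counterexamples are preserved by isomorphisms. -/
theorem MinCex.map (h : MinCex p x) (e : G ≃* H) : MinCex p (e x) where
  ord := by rw [MulEquiv.orderOf_eq, h.ord]
  iso := isolated_map e h.iso
  nz := fun hz => h.nz ((inZStar_congr e rfl).2 hz)
  sub := by
    intro K hxK hK
    set K' : Subgroup G := K.comap e.toMonoidHom with hK'
    have hxK' : x ∈ K' := hxK
    have hne : K' ≠ ⊤ := by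
      intro ht
      apply hK
      rw [eq_top_iff]
      intro y _
      have h1 : e.symm y ∈ K' := by rw [ht]; trivial
      have h2 : e (e.symm y) ∈ K := h1
      rwa [e.apply_symm_apply] at h2
    have hm : K'.map e.toMonoidHom = K := map_comap_eq_self_of_surjective e.surjective K
    let f : K' ≃* K := (K'.equivMapOfInjective e.toMonoidHom e.injective).trans
      (MulEquiv.subgroupCongr hm)
    exact (inZStar_congr f (x := ⟨x, hxK'⟩) (by rfl)).1 (h.sub K' hxK' hne)
  quot := by
    intro N _ hN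
    set N' : Subgroup G := N.comap e.toMonoidHom with hN'
    have hNn : N'.Normal := inferInstance
    have hne : N' ≠ ⊥ := by
      intro hb
      apply hN
      rw [eq_bot_iff]
      intro y hy
      have h1 : e.symm y ∈ N' := by
        change e (e.symm y) ∈ N
        rwa [e.apply_symm_apply]
      rw [hb, mem_bot] at h1
      rw [mem_bot, ← e.apply_symm_apply y, h1, map_one]
    have hm : N'.map e.toMonoidHom = N := map_comap_eq_self_of_surjective e.surjective N
    let f : G ⧸ N' ≃* H ⧸ N := QuotientGroup.congr N' N e hm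
    exact (inZStar_congr f (by rfl)).1 (h.quot N' hne)

end Map

variable {G : Type u} [Group G] {p : ℕ} {x : G}

theorem MinCex.conj (h : MinCex p x) (g : G) : MinCex p (g * x * g⁻¹) := by
  have := MinCex.map h (MulAut.conj g)
  rwa [MulAut.conj_apply] at this

variable [Finite G] [hp : Fact p.Prime]

/-! ### T2 -/

/-- The centre of `G` is trivial. -/
theorem center_eq_bot (h : MinCex p x) : center G = ⊥ := by
  rw [eq_bot_iff, ← h.centralizer_eq_bot]
  intro z hz
  rw [mem_centralizer_iff]
  intro y _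
  exact mem_center_iff.1 hz y

theorem centralizer_ne_top (h : MinCex p x) {y : G} (hy : y ≠ 1) :
    centralizer ({y} : Set G) ≠ ⊤ := by
  intro ht
  apply hy
  have h1 : y ∈ center G := by
    rw [mem_center_iff]
    intro g
    have : g ∈ centralizer ({y} : Set G) := by rw [ht]; trivial
    exact mem_centralizer_singleton_iff.1 this
  rw [center_eq_bot h, mem_bot] at h1
  exact h1

/-- Every `p`-subgroup is centralized by a conjugate of the isolated element `x` of order `p`. -/
theorem exists_conj_centralizes (hiso : IsIsolated x) (hx : ∃ k : ℕ, orderOf x = p ^ k)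
    {Q : Subgroup G} (hQ : IsPGroup p Q) :
    ∃ g : G, ∀ y ∈ Q, g * x * g⁻¹ * y = y * (g * x * g⁻¹) := by
  obtain ⟨k, hk⟩ := hx
  have hxk : IsPGroup p (zpowers x) := IsPGroup.of_card (n := k) (by rw [Nat.card_zpowers, hk])
  obtain ⟨R, hR⟩ := hxk.exists_le_sylow
  obtain ⟨S, hS⟩ := hQ.exists_le_sylow
  obtain ⟨g, hg⟩ := MulAction.exists_smul_eq G S R
  have h1 : g⁻¹ * x * g ∈ S := conj_mem_sylow hg (hR (mem_zpowers x))
  refine ⟨g⁻¹, fun y hy => ?_⟩
  rw [inv_inv]
  have h2 := isolated_conj hiso g⁻¹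
  rw [inv_inv] at h2
  exact comm_of_mem h2 S.isPGroup' h1 (hS hy)

/-- (T2) If `p` divides the order of the centralizer of an element `s ≠ 1` of order a power of the
prime `ℓ ≠ p`, then `x` normalizes a Sylow `ℓ`-subgroup of `G`. -/
theorem exists_sylow_of_dvd (h : MinCex p x) {ℓ : ℕ} [hl : Fact ℓ.Prime] (hne : ℓ ≠ p) {s : G}
    (hs1 : s ≠ 1) (hs : ∃ k : ℕ, orderOf s = ℓ ^ k)
    (hdvd : p ∣ Nat.card (centralizer ({s} : Set G))) :
    ∃ S : Sylow ℓ G, x ∈ normalizer ((S : Subgroup G) : Set G) := by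
  obtain ⟨y, hy⟩ := exists_prime_orderOf_dvd_card' p hdvd
  have hy' : orderOf (y : G) = p := by
    rw [← hy]; exact orderOf_injective (centralizer ({s} : Set G)).subtype (subtype_injective _) y
  have hys : (y : G) * s = s * y := mem_centralizer_singleton_iff.1 y.2
  have hy1 : (y : G) ≠ 1 := by
    intro h1
    rw [h1, orderOf_one] at hy'
    exact hp.out.one_lt.ne hy'
  obtain ⟨g, hg⟩ := exists_conj_centralizes (p := p) h.iso h.pord (Q := zpowers (y : G))
    (IsPGroup.of_card (n := 1) (by rw [Nat.card_zpowers, hy', pow_one]))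
  have hgy := hg y (mem_zpowers _)
  set x' := g * x * g⁻¹ with hx'
  have h' : MinCex p x' := MinCex.conj h g
  set K := centralizer ({(y : G)} : Set G) with hK
  have hxK : x' ∈ K := by rw [hK, mem_centralizer_singleton_iff]; exact hgy
  have hsK : s ∈ K := by rw [hK, mem_centralizer_singleton_iff]; exact hys.symm
  have hKt : K ≠ ⊤ := centralizer_ne_top h hy1
  have hz := h'.sub K hxK hKt
  have hxo : orderOf (⟨x', hxK⟩ : K) = p := by
    rw [← h'.ord]
    exact (orderOf_injective K.subtype K.subtype_injective ⟨x', hxK⟩).symm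
  obtain ⟨T, hxT, -⟩ := ZSyl.exists_sylow_ge (R := (⊥ : Subgroup K)) hne (x := (⟨x', hxK⟩ : K))
    ⟨1, by rw [hxo, pow_one]⟩ hz IsPGroup.of_bot (by
      have : (⊥ : Subgroup K).Normal := inferInstance
      rw [normalizer_eq_top_iff.2 this]; trivial)
  have hTne : (T : Subgroup K).map K.subtype ≠ ⊥ := by
    rw [Ne, map_eq_bot_iff_of_injective _ K.subtype_injective]
    intro hT
    obtain ⟨k, hk⟩ := hs
    have h1 : IsPGroup ℓ (zpowers (⟨s, hsK⟩ : K)) := by
      apply IsPGroup.of_card (n := k)
      rw [Nat.card_zpowers, ← hk]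
      exact (orderOf_injective K.subtype K.subtype_injective ⟨s, hsK⟩).symm
    obtain ⟨V, hV⟩ := h1.exists_le_sylow
    have h2 : Nat.card (V : Subgroup K) = Nat.card (T : Subgroup K) := by
      rw [V.card_eq_multiplicity, T.card_eq_multiplicity]
    rw [hT, card_bot] at h2
    have h3 : (V : Subgroup K) = ⊥ := card_eq_one.1 h2
    rw [h3, le_bot_iff, zpowers_eq_bot] at hV
    exact hs1 (congrArg Subtype.val hV)
  have h2 : x' ∈ normalizer (((T : Subgroup K).map K.subtype : Subgroup G) : Set G) := by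
    rw [mem_normalizer_iff] at hxT ⊢
    intro w
    constructor
    · rintro ⟨t, ht, rfl⟩
      exact ⟨_, (hxT t).1 ht, rfl⟩
    · rintro ⟨t, ht, he⟩
      refine ⟨⟨x', hxK⟩⁻¹ * t * ⟨x', hxK⟩, (hxT _).2 ?_, ?_⟩
      · have : (⟨x', hxK⟩ : K) * (⟨x', hxK⟩⁻¹ * t * ⟨x', hxK⟩) * (⟨x', hxK⟩ : K)⁻¹ = t := by group
        change (⟨x', hxK⟩ : K) * (⟨x', hxK⟩⁻¹ * t * ⟨x', hxK⟩) * (⟨x', hxK⟩ : K)⁻¹ ∈ T
        rw [this]; exact ht
      · simp only [subtype_apply] at he
        simp only [map_mul, map_inv, subtype_apply, he]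
        group
  obtain ⟨S, -, hS⟩ := ZMin.exists_sylow h' (T.isPGroup'.map K.subtype) h2 hTne
  refine ⟨g⁻¹ • S, ?_⟩
  have hmem : ∀ w : G, w ∈ ((g⁻¹ • S : Sylow ℓ G) : Subgroup G) ↔ g * w * g⁻¹ ∈ (S : Subgroup G) := by
    intro w
    rw [Sylow.coe_subgroup_smul, Subgroup.mem_pointwise_smul_iff_inv_smul_mem]
    have : (MulAut.conj g⁻¹)⁻¹ • w = g * w * g⁻¹ := by
      rw [← map_inv, inv_inv, MulAut.smul_def, MulAut.conj_apply]
    rw [this]
  rw [mem_normalizer_iff] at hS ⊢
  intro w
  rw [hmem, hmem]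
  have h3 : g * (x * w * x⁻¹) * g⁻¹ = x' * (g * w * g⁻¹) * x'⁻¹ := by
    rw [hx']; group
  rw [h3]
  exact hS _

/-! ### T3 -/

/-- (T3) If the isolated element `x` of order `p` lies in the Sylow `p`-subgroup `P` of the perfect
group `G`, then `x ∈ P'`. -/
theorem mem_commutator_sylow (hiso : IsIsolated x) (hx : orderOf x = p) (hG : commutator G = ⊤)
    (P : Sylow p G) (hxP : x ∈ (P : Subgroup G)) :
    (⟨x, hxP⟩ : (P : Subgroup G)) ∈ commutator (P : Subgroup G) := by
  set f : G →* Abelianization (P : Subgroup G) :=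
    MonoidHom.transfer (Abelianization.of (G := (P : Subgroup G))) with hf
  have key : ∀ (k : ℕ) (g₀ : G), g₀⁻¹ * x ^ k * g₀ ∈ (P : Subgroup G) →
      g₀⁻¹ * x ^ k * g₀ = x ^ k := by
    intro k g₀ hg
    have h1 := isolated_pow hiso ⟨1, by rw [hx, pow_one]⟩ k
    have h2 := eq_of_mem h1 P.isPGroup' ((P : Subgroup G).pow_mem hxP k) (g := g₀⁻¹)
      (by rwa [inv_inv])
    rwa [inv_inv] at h2
  have h1 : f x = 1 := by
    have h2 : x ∈ commutator G := by rw [hG]; trivial
    exact Abelianization.commutator_subset_ker f h2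
  rw [hf, MonoidHom.transfer_eq_pow _ x key] at h1
  have h3 : (Abelianization.of (⟨x, hxP⟩ : (P : Subgroup G))) ^ (P : Subgroup G).index = 1 := by
    rw [← map_pow, ← h1]
    rfl
  have h4 : (Abelianization.of (⟨x, hxP⟩ : (P : Subgroup G))) ^ p = 1 := by
    rw [← map_pow]
    have : (⟨x, hxP⟩ : (P : Subgroup G)) ^ p = 1 := by
      apply Subtype.ext
      have h6 : x ^ p = 1 := by rw [← hx, pow_orderOf_eq_one]
      rw [coe_pow, coe_one]
      exact h6
    rw [this, map_one]
  have h5 : Nat.Coprime (P : Subgroup G).index p := by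
    rw [Nat.coprime_comm, Nat.Prime.coprime_iff_not_dvd hp.out]
    exact P.not_dvd_index
  have h6 : orderOf (Abelianization.of (⟨x, hxP⟩ : (P : Subgroup G))) ∣ 1 := by
    rw [← h5]
    exact Nat.dvd_gcd (orderOf_dvd_of_pow_eq_one h3) (orderOf_dvd_of_pow_eq_one h4)
  have h7 : Abelianization.of (⟨x, hxP⟩ : (P : Subgroup G)) = 1 :=
    orderOf_eq_one_iff.1 (Nat.dvd_one.1 h6)
  rw [← Abelianization.ker_of]
  exact h7

/-- (T3) In a perfect group with an isolated element of order `p`, the Sylow `p`-subgroups are not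
abelian. -/
theorem not_comm_sylow (hiso : IsIsolated x) (hx : orderOf x = p) (hG : commutator G = ⊤)
    (P : Sylow p G) : ¬ ∀ a ∈ (P : Subgroup G), ∀ b ∈ (P : Subgroup G), a * b = b * a := by
  intro hab
  obtain ⟨k, -, hk⟩ : ∃ Q : Sylow p G, Q = P ∧ ∃ g : G, g * x * g⁻¹ ∈ (P : Subgroup G) := by
    have hxk : IsPGroup p (zpowers x) :=
      IsPGroup.of_card (n := 1) (by rw [Nat.card_zpowers, hx, pow_one])
    obtain ⟨R, hR⟩ := hxk.exists_le_sylow
    obtain ⟨g, hg⟩ := MulAction.exists_smul_eq G P R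
    refine ⟨P, rfl, g⁻¹, ?_⟩
    rw [inv_inv]
    exact conj_mem_sylow hg (hR (mem_zpowers x))
  obtain ⟨g, hgP⟩ := hk
  have h1 := mem_commutator_sylow (isolated_conj hiso g) (by rw [orderOf_conj', hx]) hG P hgP
  have h2 : commutator (P : Subgroup G) = ⊥ := by
    rw [eq_bot_iff, _root_.commutator_def, commutator_le]
    intro a _ b _
    rw [mem_bot, commutatorElement_eq_one_iff_mul_comm]
    exact Subtype.ext (hab a a.2 b b.2)
  rw [h2, mem_bot] at h1
  have h3 : g * x * g⁻¹ = 1 := congrArg Subtype.val h1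
  have h4 : orderOf (g * x * g⁻¹) = p := by rw [orderOf_conj', hx]
  rw [h3, orderOf_one] at h4
  exact hp.out.one_lt.ne h4

/-! ### the inner case -/

omit [Finite G] in
/-- If all automorphisms of order `p` of `L = G'` are inner then `x ∈ L`. -/
theorem mem_commutator_of_inner [Finite G] (h : MinCex p x)
    (hi : ∀ α : MulAut (commutator G), orderOf α = p → ∃ g : commutator G, α = MulAut.conj g) :
    x ∈ commutator G := by
  set L := commutator G with hL
  have hconj : ∀ (g : G) (y : L), ((MulAut.conjNormal g y : L) : G) = g * y * g⁻¹ := fun g y => by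
    rw [MulAut.conjNormal_apply]
  set α : MulAut L := MulAut.conjNormal x with hα
  have hker : ∀ g : G, (∀ y : L, ((MulAut.conjNormal g y : L) : G) = y) → g = 1 := by
    intro g hg
    have h1 : g ∈ centralizer (L : Set G) := by
      rw [mem_centralizer_iff]
      intro y hy
      have h2 := hg ⟨y, hy⟩
      rw [hconj] at h2
      calc y * g = (g * y * g⁻¹) * g := by rw [show g * y * g⁻¹ = y from h2]
        _ = g * y := by group
    rw [h.centralizer_eq_bot, mem_bot] at h1
    exact h1
  have hα1 : orderOf α = p := by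
    have h1 : α ^ p = 1 := by
      rw [hα, ← map_pow, ← h.ord, pow_orderOf_eq_one, map_one]
    rcases (Nat.dvd_prime hp.out).1 (orderOf_dvd_of_pow_eq_one h1) with h2 | h2
    · exfalso
      rw [orderOf_eq_one_iff] at h2
      have h3 : x = 1 := hker x (fun y => by rw [← hα, h2]; rfl)
      have h4 := h.ord
      rw [h3, orderOf_one] at h4
      exact hp.out.one_lt.ne h4
    · exact h2
  obtain ⟨l, hl⟩ := hi α hα1
  have h5 : (l : G)⁻¹ * x = 1 := by
    apply hker
    intro y
    rw [hconj]
    have h6 : ((α y : L) : G) = l * y * (l : G)⁻¹ := by rw [hl, MulAut.conj_apply]; rfl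
    rw [hα, hconj] at h6
    calc (l : G)⁻¹ * x * y * ((l : G)⁻¹ * x)⁻¹ = (l : G)⁻¹ * (x * y * x⁻¹) * l := by group
      _ = y := by rw [h6]; group
  have h6 : x = l := by
    calc x = l * ((l : G)⁻¹ * x) := by group
      _ = l := by rw [h5, mul_one]
  rw [h6]
  exact l.2

/-- If `x ∈ G'` then `G' = G`. -/
theorem commutator_eq_top (h : MinCex p x) (hx : x ∈ commutator G) : commutator G = ⊤ := by
  rw [← h.sup_commutator, eq_comm, sup_eq_left, zpowers_le]
  exact hx

/-- The row of `L`: no minimal counterexample has derived subgroup isomorphic to `L`. -/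
def Row (p : ℕ) (L : Type v) [Group L] : Prop :=
  ∀ {G : Type u} [Group G] [Finite G] (x : G), MinCex p x → (commutator G ≃* L) → False

omit [Finite G] in
/-- The row of `L` when all automorphisms of order `p` of `L` are inner. -/
theorem row_of {L : Type v} [Group L] (hi : ∀ α : MulAut L, orderOf α = p → ∃ g : L, α = MulAut.conj g)
    (hL : ∀ y : L, ¬ MinCex p y) : Row.{u, v} p L := by
  intro G _ _ x h e
  have hi' : ∀ α : MulAut (commutator G), orderOf α = p → ∃ g : commutator G, α = MulAut.conj g := by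
    intro α hα
    obtain ⟨g, hg⟩ := hi (MulAut.congr e α) (by rw [MulEquiv.orderOf_eq, hα])
    refine ⟨e.symm g, ?_⟩
    ext y
    have h1 := congrArg (fun β : MulAut L => e.symm (β (e y))) hg
    simp only [MulAut.congr, MulEquiv.coe_mk, Equiv.coe_fn_mk, MulEquiv.trans_apply,
      MulEquiv.symm_apply_apply, MulAut.conj_apply, map_mul, map_inv] at h1
    rw [h1, MulAut.conj_apply]
  have hxL := mem_commutator_of_inner h hi'
  have ht := commutator_eq_top h hxL
  let f : G ≃* L := (Subgroup.topEquiv.symm.trans (MulEquiv.subgroupCongr ht.symm)).trans e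
  exact hL (f x) (MinCex.map h f)

omit hp in
/-- `Row` only depends on the isomorphism type. -/
theorem Row.congr {L : Type v} [Group L] {K : Type*} [Group K] (e : K ≃* L) (h : Row.{u} p L) :
    Row.{u} p K := fun x hx f => h x hx (f.trans e)

end Cfsg.Agent.H256.ZTool
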