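import Cfsg.Agent.H256.SporC

/-!
# The `Z*_p` theorem, `p` odd: more tools for the sporadic rows

* `false_of_simple_sub` : `y` in a proper simple nonabelian subgroup of order divisible by `p`;
* `exists_pred` : `P ≤ C(z)` such that every normal subgroup containing `R` has a property `Q` or is `P`:
  a conjugate of `y` is in `P` and has the property `Q`.
-/

set_option autoImplicit false
set_option linter.style.haveILetI false
set_option linter.unusedSectionVars false

namespace Cfsg.Agent.H256.Spor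

open scoped commutatorElement
open Subgroup Cfsg Cfsg.Agent.H256.ZBasic Cfsg.Agent.H256.ZRed Cfsg.Agent.H256.ZTool

universe u v w

variable {K : Type u} [Group K] {p : ℕ} {y : K} [Finite K] [hp : Fact p.Prime]

/-- `y` in a proper simple nonabelian subgroup -/
theorem false_of_simple_sub (h : MinCex p y) {L : Type w} [Group L] [hL : IsSimpleGroup L]
    (hna : ∃ a b : L, a * b ≠ b * a) (hd : p ∣ Nat.card L) (ψ : L →* K) (hψ : Function.Injective ψ)
    (hr : ψ.range ≠ ⊤) (hy : y ∈ ψ.range) : False := by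
  let e : L ≃* ψ.range := MonoidHom.ofInjective hψ
  have h1 := hom_eq_one h hy hr hna hd e.symm.toMonoidHom e.symm.surjective
  have h2 : (⟨y, hy⟩ : ψ.range) = 1 := e.symm.injective (by rw [map_one]; exact h1)
  have h3 : y = 1 := congrArg Subtype.val h2
  have h4 := h.ord
  rw [h3, orderOf_one] at h4
  exact hp.out.ne_one h4.symm

theorem pred_of_quasi {C : Type v} [Group C] [Finite C] {R : Subgroup C} (Q : C → Prop) (hperf : commutator C = ⊤)
    (hq : ∀ N : Subgroup C, N.Normal → R ≤ N → (∀ n ∈ N, Q n) ∨ N = ⊤)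
    (hR : R ≤ pPrimeCore p C) {x : C} (hx : orderOf x = p) (hz : InZStar p x) : Q x := by
  have hO : (pPrimeCore p C).Normal := Lib.Cores.pPrimeCore_normal p
  set N : Subgroup C := pPrimeCore p C ⊔ zpowers x with hN
  have hxN : x ∈ N := (le_sup_right : zpowers x ≤ N) (mem_zpowers x)
  have hNn : N.Normal := by
    refine ⟨fun n hn g => ?_⟩
    have h1 : N ≤ N.comap (MulAut.conj g).toMonoidHom := by
      rw [hN, sup_le_iff]
      constructor
      · intro a ha
        exact (le_sup_left : pPrimeCore p C ≤ N) (hO.conj_mem a ha g)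
      · rw [zpowers_le]
        have h2 : g * x * g⁻¹ = (g * x * g⁻¹ * x⁻¹) * x := by group
        change g * x * g⁻¹ ∈ N
        rw [h2]
        exact N.mul_mem ((le_sup_left : pPrimeCore p C ≤ N) (hz g)) hxN
    exact h1 hn
  rcases hq N hNn (hR.trans le_sup_left) with h1 | h1
  · exact h1 x hxN
  · exfalso
    have h2 : commutator C ≤ pPrimeCore p C := by
      rw [_root_.commutator_def, ← h1, hN]
      have hxx : ∀ a ∈ pPrimeCore p C ⊔ zpowers x, ∀ b ∈ pPrimeCore p C ⊔ zpowers x,
          (QuotientGroup.mk' (pPrimeCore p C) a) * (QuotientGroup.mk' (pPrimeCore p C) b) =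
          (QuotientGroup.mk' (pPrimeCore p C) b) * (QuotientGroup.mk' (pPrimeCore p C) a) := by
        have key : ∀ a ∈ pPrimeCore p C ⊔ zpowers x, QuotientGroup.mk' (pPrimeCore p C) a ∈
            zpowers (QuotientGroup.mk' (pPrimeCore p C) x) := by
          intro a ha
          have h3 : pPrimeCore p C ⊔ zpowers x ≤
              (zpowers (QuotientGroup.mk' (pPrimeCore p C) x)).comap (QuotientGroup.mk' (pPrimeCore p C)) := by
            rw [sup_le_iff]
            constructor
            · intro b hb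
              rw [mem_comap]
              have h0 : QuotientGroup.mk' (pPrimeCore p C) b = 1 := (QuotientGroup.eq_one_iff b).2 hb
              rw [h0]
              exact one_mem _
            · rw [zpowers_le, mem_comap]
              exact mem_zpowers _
          exact h3 ha
        intro a ha b hb
        obtain ⟨m, hm⟩ := mem_zpowers_iff.1 (key a ha)
        obtain ⟨n, hn⟩ := mem_zpowers_iff.1 (key b hb)
        rw [← hm, ← hn, ← zpow_add, ← zpow_add, add_comm]
      rw [commutator_le]
      intro a ha b hb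
      rw [← QuotientGroup.eq_one_iff, commutatorElement_def]
      have h4 := hxx a ha b hb
      simp only [QuotientGroup.mk'_apply] at h4
      rw [QuotientGroup.mk_mul, QuotientGroup.mk_mul, QuotientGroup.mk_mul, h4]
      simp
    rw [hperf, top_le_iff] at h2
    have h3 := Lib.Cores.pPrimeCore_coprime (G := C) p
    rw [h2, card_top] at h3
    have h4 : p ∣ Nat.card C := by rw [← hx]; exact orderOf_dvd_natCard x
    exact hp.out.one_lt.ne' (Nat.Coprime.eq_one_of_dvd h3.symm h4)

theorem exists_pred (h : MinCex p y) (hp2 : p ≠ 2) {z : K} (zz : z * z = 1) (z1 : z ≠ 1)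
    (hsyl : ∃ S : Sylow 2 K, z ∈ S ∧ (∀ x ∈ S, x * z = z * x) ∧
      ∀ w ∈ S, (∀ x ∈ S, x * w = w * x) → w = 1 ∨ w = z)
    {P R : Subgroup K} (hPt : P ≠ ⊤) (hPz : ∀ x ∈ P, x * z = z * x)
    (hidx : ∀ a b : K, a * z = z * a → b * z = z * b → a ∉ P → b ∉ P → a * b ∈ P)
    (hRP : R ≤ P) (R2 : IsPGroup 2 R) (Rn : ∀ x ∈ P, ∀ r ∈ R, x * r * x⁻¹ ∈ R) (perf : ⁅P, P⁆ = P) (Q : K → Prop)
    (hq : ∀ N : Subgroup K, N ≤ P → R ≤ N → (∀ x ∈ P, ∀ n ∈ N, x * n * x⁻¹ ∈ N) → (∀ n ∈ N, Q n) ∨ N = P)
    (hd : p ∣ Nat.card P) : ∃ y' : K, MinCex p y' ∧ y' ∈ P ∧ Q y' := by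
  have hdP : p ∣ Nat.card (centralizer ({z} : Set K)) :=
    hd.trans (Subgroup.card_dvd_of_le fun x hx => mem_centralizer_singleton_iff.2 (hPz x hx))
  obtain ⟨y', h', hy'⟩ := exists_comm h hp2 z1
    (by
      obtain ⟨S, h1, h2, h3⟩ := hsyl
      exact ⟨S, h1, h2, fun w hw _ => h3 w hw⟩) zz zz z1 hdP
  have hyP : y' ∈ P := mem_of_idx hidx hy' (odd_ord h' hp2)
  have hyo : orderOf (⟨y', hyP⟩ : P) = p := by
    rw [← h'.ord]
    exact (orderOf_injective P.subtype (subtype_injective _) ⟨y', hyP⟩).symm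
  have hpf : commutator P = ⊤ := by
    apply map_injective P.subtype_injective
    rw [_root_.commutator_def, map_commutator, ← MonoidHom.range_eq_map, range_subtype, perf]
  refine ⟨y', h', hyP, ?_⟩
  have hRn : (R.subgroupOf P).Normal := ⟨fun n hn g => by
    rw [mem_subgroupOf] at hn ⊢
    exact Rn g g.2 n hn⟩
  have h1 := pred_of_quasi (R := R.subgroupOf P) (fun x : P => Q x) hpf (fun N hN hRN => by
      rcases hq (N.map P.subtype) (by rintro _ ⟨n, -, rfl⟩; exact n.2) (by
          intro r hr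
          exact ⟨⟨r, hRP hr⟩, hRN (mem_subgroupOf.2 hr), rfl⟩) (by
          rintro x hx _ ⟨n, hn, rfl⟩
          exact ⟨⟨x, hx⟩ * n * ⟨x, hx⟩⁻¹, hN.conj_mem n hn _, rfl⟩) with h2 | h2
      · left
        intro n hn
        exact h2 n (mem_map_of_mem P.subtype hn)
      · right
        rw [eq_top_iff]
        intro x _
        have h3 : (x : K) ∈ N.map P.subtype := by rw [h2]; exact x.2
        obtain ⟨n, hn, h4⟩ := h3
        have : n = x := Subtype.ext h4
        rw [← this]; exact hn)
    (by
      apply Lib.Cores.le_pPrimeCore hRn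
      have h2 : IsPGroup 2 (R.subgroupOf P) := R2.comap_of_injective _ P.subtype_injective
      haveI : Fact (Nat.Prime 2) := ⟨Nat.prime_two⟩
      obtain ⟨k, hk⟩ := h2.exists_card_eq
      rw [hk]
      exact Nat.Coprime.pow_left k ((Nat.coprime_primes Nat.prime_two hp.out).2 (Ne.symm hp2)))
    hyo (h'.sub P hyP hPt)
  exact h1

end Cfsg.Agent.H256.Spor
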