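import Cfsg.Prelude.Def_IsolatedElements
import Cfsg.Agent.Lib.Cores
import Cfsg.Agent.S0634
import Cfsg.Agent.SignalizersComponents.CompBasic

/-!
# Isolated elements of prime power order

* `comm_of_mem`: an isolated element is central in every `p`-subgroup which contains it;
* `exists_conj_mem`: two conjugates of an isolated `p`-element that lie in `H` are conjugate in `H`;
* `isolated_pow`: powers of an isolated `p`-element are isolated;
* `isolated_quotient`: the image of an isolated `p`-element in a quotient is isolated;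
* `isolated_of_sylow`: an element of a Sylow `p`-subgroup `S` which is its only conjugate in `S` is
  isolated.
-/

set_option autoImplicit false

namespace Cfsg.Agent.H256.ZBasic

open Subgroup Cfsg

variable {G : Type*} [Group G]

/-- An isolated element lies in the centre of each `p`-subgroup containing it. -/
theorem comm_of_mem [Finite G] {p : ℕ} [Fact p.Prime] {x : G} (hiso : IsIsolated x)
    {P : Subgroup G} (hP : IsPGroup p P) (hx : x ∈ P) {y : G} (hy : y ∈ P) : x * y = y * x := by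
  have : Group.IsNilpotent P := hP.isNilpotent
  by_contra hne
  set C : Subgroup P := (centralizer ({x} : Set G)).subgroupOf P with hC
  have hCt : C < ⊤ := by
    refine lt_top_iff_ne_top.2 fun h => hne ?_
    have h1 : (⟨y, hy⟩ : P) ∈ C := by rw [h]; trivial
    rw [hC, mem_subgroupOf, mem_centralizer_singleton_iff] at h1
    exact h1.symm
  have hlt := Group.normalizerCondition_of_isNilpotent C hCt
  obtain ⟨g, hg, hgC⟩ := SetLike.exists_of_lt hlt
  apply hgC
  have hxC : (⟨x, hx⟩ : P) ∈ C := by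
    rw [hC, mem_subgroupOf, mem_centralizer_singleton_iff]
  have h2 := (mem_normalizer_iff.1 hg ⟨x, hx⟩).1 hxC
  rw [hC, mem_subgroupOf, mem_centralizer_singleton_iff] at h2
  have h3 : (g : G) * x * (g : G)⁻¹ = x := hiso g h2.symm
  rw [hC, mem_subgroupOf, mem_centralizer_singleton_iff]
  calc (g : G) * x = (g : G) * x * (g : G)⁻¹ * g := by group
    _ = x * g := by rw [h3]

/-- An isolated element which lies in a `p`-subgroup is its only conjugate there. -/
theorem eq_of_mem [Finite G] {p : ℕ} [Fact p.Prime] {x : G} (hiso : IsIsolated x)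
    {P : Subgroup G} (hP : IsPGroup p P) (hx : x ∈ P) {g : G} (hg : g * x * g⁻¹ ∈ P) :
    g * x * g⁻¹ = x := hiso g (comm_of_mem hiso hP hx hg)

theorem isolated_conj {x : G} (hiso : IsIsolated x) (g : G) : IsIsolated (g * x * g⁻¹) := by
  intro h hc
  have h1 : Commute x ((g⁻¹ * h * g) * x * (g⁻¹ * h * g)⁻¹) := by
    have h2 : g * x * g⁻¹ * (h * (g * x * g⁻¹) * h⁻¹) = h * (g * x * g⁻¹) * h⁻¹ * (g * x * g⁻¹) := hc
    change x * ((g⁻¹ * h * g) * x * (g⁻¹ * h * g)⁻¹) = (g⁻¹ * h * g) * x * (g⁻¹ * h * g)⁻¹ * x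
    calc x * ((g⁻¹ * h * g) * x * (g⁻¹ * h * g)⁻¹)
        = g⁻¹ * (g * x * g⁻¹ * (h * (g * x * g⁻¹) * h⁻¹)) * g := by group
      _ = g⁻¹ * (h * (g * x * g⁻¹) * h⁻¹ * (g * x * g⁻¹)) * g := by rw [h2]
      _ = _ := by group
  have h3 := hiso _ h1
  calc h * (g * x * g⁻¹) * h⁻¹ = g * ((g⁻¹ * h * g) * x * (g⁻¹ * h * g)⁻¹) * g⁻¹ := by group
    _ = g * x * g⁻¹ := by rw [h3]

/-- A `p`-element of `H` lies in a Sylow `p`-subgroup of `H`. -/
theorem exists_sylow_mem [Finite G] {p : ℕ} [Fact p.Prime] {H : Subgroup G} {x : G}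
    (hx : ∃ k : ℕ, orderOf x = p ^ k) (hxH : x ∈ H) :
    ∃ P : Sylow p H, (⟨x, hxH⟩ : H) ∈ P := by
  obtain ⟨k, hk⟩ := hx
  have h1 : IsPGroup p (zpowers (⟨x, hxH⟩ : H)) := by
    apply IsPGroup.of_card (n := k)
    rw [Nat.card_zpowers, ← hk]
    exact (orderOf_injective H.subtype H.subtype_injective ⟨x, hxH⟩).symm
  obtain ⟨P, hP⟩ := h1.exists_le_sylow
  exact ⟨P, hP (mem_zpowers _)⟩

theorem orderOf_conj' (g x : G) : orderOf (g * x * g⁻¹) = orderOf x := by
  have h := orderOf_injective (MulAut.conj g).toMonoidHom (MulAut.conj g).injective x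
  simpa [MulAut.conj_apply] using h

theorem conj_mem_sylow {H : Type*} [Group H] {p : ℕ} {P Q : Sylow p H} {h : H}
    (hh : h • P = Q) {y : H} (hy : y ∈ Q) : h⁻¹ * y * h ∈ P := by
  rw [← hh] at hy
  have h2 : y ∈ ((h • P : Sylow p H) : Subgroup H) := hy
  rw [Sylow.coe_subgroup_smul, Subgroup.mem_pointwise_smul_iff_inv_smul_mem] at h2
  have h3 : (MulAut.conj h)⁻¹ • y = h⁻¹ * y * h := by
    rw [← map_inv, MulAut.smul_def, MulAut.conj_apply, inv_inv]
  rw [h3] at h2
  exact h2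

/-- Two conjugates of an isolated `p`-element that lie in `H` are conjugate in `H`. -/
theorem exists_conj_mem [Finite G] {p : ℕ} [Fact p.Prime] {x : G} (hiso : IsIsolated x)
    (hx : ∃ k : ℕ, orderOf x = p ^ k) {H : Subgroup G} (hxH : x ∈ H) {g : G}
    (hg : g * x * g⁻¹ ∈ H) : ∃ h ∈ H, g * x * g⁻¹ = h * x * h⁻¹ := by
  have hx' : ∃ k : ℕ, orderOf (g * x * g⁻¹) = p ^ k := by
    rw [orderOf_conj']; exact hx
  obtain ⟨P₁, hP₁⟩ := exists_sylow_mem hx hxH
  obtain ⟨P₂, hP₂⟩ := exists_sylow_mem hx' hg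
  obtain ⟨h, hh⟩ := MulAction.exists_smul_eq H P₁ P₂
  have h1 : (h⁻¹ * ⟨g * x * g⁻¹, hg⟩ * h : H) ∈ P₁ := conj_mem_sylow hh hP₂
  have h2 : IsPGroup p ((P₁ : Subgroup H).map H.subtype) := P₁.isPGroup'.map _
  have h3 : ((h : G)⁻¹ * g) * x * ((h : G)⁻¹ * g)⁻¹ ∈ (P₁ : Subgroup H).map H.subtype := by
    refine ⟨_, h1, ?_⟩
    simp only [subtype_apply, coe_mul, coe_inv]
    group
  have h4 := eq_of_mem hiso h2 ⟨_, hP₁, rfl⟩ h3
  refine ⟨h, h.2, ?_⟩
  calc g * x * g⁻¹ = (h : G) * (((h : G)⁻¹ * g) * x * ((h : G)⁻¹ * g)⁻¹) * (h : G)⁻¹ := by group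
    _ = _ := by rw [h4]

/-- Powers of an isolated `p`-element are isolated. -/
theorem isolated_pow [Finite G] {p : ℕ} [Fact p.Prime] {x : G} (hiso : IsIsolated x)
    (hx : ∃ k : ℕ, orderOf x = p ^ k) (m : ℕ) : IsIsolated (x ^ m) := by
  intro g hg
  set y := x ^ m with hy
  have hyk : ∃ k : ℕ, orderOf y = p ^ k := by
    obtain ⟨k, hk⟩ := hx
    have h1 : orderOf y ∣ p ^ k := hk ▸ orderOf_pow_dvd (x := x) m
    obtain ⟨j, -, hj⟩ := (Nat.dvd_prime_pow Fact.out).1 h1
    exact ⟨j, hj⟩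
  -- `D = C(y^g)`
  set D : Subgroup G := centralizer ({g * y * g⁻¹} : Set G) with hD
  have hxD : g * x * g⁻¹ ∈ D := by
    rw [hD, mem_centralizer_singleton_iff, hy]
    have h0 : x * x ^ m = x ^ m * x := (Commute.refl x).pow_right m
    calc g * x * g⁻¹ * (g * x ^ m * g⁻¹) = g * (x * x ^ m) * g⁻¹ := by group
      _ = g * (x ^ m * x) * g⁻¹ := by rw [h0]
      _ = _ := by group
  have hyD : y ∈ D := by
    rw [hD, mem_centralizer_singleton_iff]; exact hg
  obtain ⟨T, hT⟩ := exists_sylow_mem (p := p) (H := D) (x := g * x * g⁻¹)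
    (by rw [orderOf_conj']; exact hx) hxD
  obtain ⟨T', hT'⟩ := exists_sylow_mem hyk hyD
  obtain ⟨d, hd⟩ := MulAction.exists_smul_eq D T T'
  have h1 : (d⁻¹ * ⟨y, hyD⟩ * d : D) ∈ T := conj_mem_sylow hd hT'
  have h2 : IsPGroup p ((T : Subgroup D).map D.subtype) := T.isPGroup'.map _
  have h3 := comm_of_mem (isolated_conj hiso g) h2 ⟨_, hT, rfl⟩ (y := (d : G)⁻¹ * y * d)
    ⟨_, h1, by simp⟩
  -- `x' = (d g) x (d g)⁻¹` commutes with `y`
  have h4 : (d : G) * g * x * ((d : G) * g)⁻¹ * y = y * ((d : G) * g * x * ((d : G) * g)⁻¹) := by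
    calc (d : G) * g * x * ((d : G) * g)⁻¹ * y
        = d * (g * x * g⁻¹ * ((d : G)⁻¹ * y * d)) * (d : G)⁻¹ := by group
      _ = d * ((d : G)⁻¹ * y * d * (g * x * g⁻¹)) * (d : G)⁻¹ := by rw [h3]
      _ = _ := by group
  have hdy : (d : G) * (g * y * g⁻¹) = g * y * g⁻¹ * d := by
    exact mem_centralizer_singleton_iff.1 d.2
  obtain ⟨e, he, he'⟩ := exists_conj_mem hiso hx (H := centralizer ({y} : Set G)) (g := (d : G) * g)
    (by rw [mem_centralizer_singleton_iff]; exact (Commute.refl x).pow_right m)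
    (by rw [mem_centralizer_singleton_iff]; exact h4)
  rw [mem_centralizer_singleton_iff] at he
  have h5 : (d : G) * g * y * ((d : G) * g)⁻¹ = e * y * e⁻¹ := by
    have h6 := congrArg (· ^ m) he'
    simp only [conj_pow] at h6
    exact h6
  calc g * y * g⁻¹ = (g * y * g⁻¹ * d) * (d : G)⁻¹ := by group
    _ = d * (g * y * g⁻¹) * (d : G)⁻¹ := by rw [hdy]
    _ = (d : G) * g * y * ((d : G) * g)⁻¹ := by group
    _ = e * y * e⁻¹ := h5
    _ = y * e * e⁻¹ := by rw [he]
    _ = y := by group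

/-- An element of a Sylow `p`-subgroup which is its only conjugate there is isolated. -/
theorem isolated_of_sylow [Finite G] {p : ℕ} [Fact p.Prime] (S : Sylow p G) {x : G}
    (hxS : x ∈ (S : Subgroup G)) (h : ∀ g : G, g * x * g⁻¹ ∈ (S : Subgroup G) → g * x * g⁻¹ = x) :
    IsIsolated x := by
  intro g hc
  obtain ⟨k, hk⟩ := (IsPGroup.iff_orderOf.1 S.isPGroup') ⟨x, hxS⟩
  have hk' : orderOf x = p ^ k := by
    rw [← hk]; exact orderOf_injective (S : Subgroup G).subtype (subtype_injective _) ⟨x, hxS⟩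
  -- the subgroup generated by `x` and its conjugate
  have h1 : IsPGroup p (zpowers x) := by
    apply IsPGroup.of_card (n := k)
    rw [Nat.card_zpowers, hk']
  have h2 : IsPGroup p (zpowers (g * x * g⁻¹)) := by
    apply IsPGroup.of_card (n := k)
    rw [Nat.card_zpowers, orderOf_conj', hk']
  have hle : zpowers (g * x * g⁻¹) ≤ normalizer (zpowers x : Set G) := by
    rw [zpowers_le, mem_normalizer_iff]
    intro y
    have h3 : ∀ z ∈ zpowers x, (g * x * g⁻¹) * z = z * (g * x * g⁻¹) := by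
      rintro _ ⟨j, rfl⟩
      exact (hc.symm.zpow_right j)
    constructor
    · intro hy
      rw [h3 y hy, mul_inv_cancel_right]
      exact hy
    · intro hy
      have h4 := h3 _ hy
      have h5 : (g * x * g⁻¹) * y * (g * x * g⁻¹)⁻¹ = y := by
        have h6 : (g * x * g⁻¹) * ((g * x * g⁻¹) * y * (g * x * g⁻¹)⁻¹) * (g * x * g⁻¹)⁻¹
          = (g * x * g⁻¹) * y * (g * x * g⁻¹)⁻¹ := by
          rw [h4]; group
        have h7 := mul_right_cancel (b := (g * x * g⁻¹)⁻¹) h6
        exact mul_left_cancel h7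
      rwa [h5] at hy
  have h3 : IsPGroup p (zpowers x ⊔ zpowers (g * x * g⁻¹) : Subgroup G) := by
    rw [sup_comm]
    exact IsPGroup.to_sup_of_normal_right' h2 h1 hle
  obtain ⟨Q, hQ⟩ := h3.exists_le_sylow
  obtain ⟨a, ha⟩ := MulAction.exists_smul_eq G S Q
  have h4 : a⁻¹ * x * a ∈ S := conj_mem_sylow ha (hQ (mem_sup_left (mem_zpowers x)))
  have h5 : a⁻¹ * (g * x * g⁻¹) * a ∈ S :=
    conj_mem_sylow ha (hQ (mem_sup_right (mem_zpowers _)))
  have h6 := h a⁻¹ (by rw [inv_inv]; exact h4)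
  have h7 := h (a⁻¹ * g) (by
    have : a⁻¹ * g * x * (a⁻¹ * g)⁻¹ = a⁻¹ * (g * x * g⁻¹) * a := by group
    rw [this]; exact h5)
  calc g * x * g⁻¹ = a * (a⁻¹ * g * x * (a⁻¹ * g)⁻¹) * a⁻¹ := by group
    _ = a * (a⁻¹ * x * a⁻¹⁻¹) * a⁻¹ := by rw [h7, h6]
    _ = x := by group

/-- The image of an isolated `p`-element in a quotient is isolated. -/
theorem isolated_quotient [Finite G] {p : ℕ} [Fact p.Prime] {x : G} (hiso : IsIsolated x)
    (hx : ∃ k : ℕ, orderOf x = p ^ k) (N : Subgroup G) [N.Normal] :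
    IsIsolated (QuotientGroup.mk x : G ⧸ N) := by
  intro g' hc
  obtain ⟨g, rfl⟩ := QuotientGroup.mk_surjective g'
  set H : Subgroup G := (centralizer ({(QuotientGroup.mk x : G ⧸ N)} : Set (G ⧸ N))).comap
    (QuotientGroup.mk' N) with hH
  have hmem : ∀ y : G, y ∈ H ↔ (QuotientGroup.mk y : G ⧸ N) * QuotientGroup.mk x =
      QuotientGroup.mk x * QuotientGroup.mk y := by
    intro y
    rw [hH, mem_comap, mem_centralizer_singleton_iff]; rfl
  obtain ⟨h, hh, he⟩ := exists_conj_mem hiso hx (H := H) (g := g) ((hmem x).2 rfl)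
    ((hmem _).2 hc.symm)
  have h1 := congrArg (QuotientGroup.mk (s := N)) he
  simp only [QuotientGroup.mk_mul, QuotientGroup.mk_inv] at h1
  rw [h1, (hmem h).1 hh, mul_inv_cancel_right]

/-- An isolated element is isolated in each subgroup containing it. -/
theorem isolated_subgroup {x : G} (hiso : IsIsolated x) {H : Subgroup G} (hxH : x ∈ H) :
    IsIsolated (⟨x, hxH⟩ : H) := by
  intro g hc
  apply Subtype.ext
  have h1 : Commute x ((g : G) * x * (g : G)⁻¹) := by
    have h2 := congrArg (Subtype.val) hc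
    exact h2
  exact hiso g h1

/-- Central elements are central modulo the `p'`-core. -/
theorem inZStar_of_central {p : ℕ} {x : G} (h : ∀ g : G, g * x = x * g) : InZStar p x := by
  intro g
  rw [h g, mul_inv_cancel_right, mul_inv_cancel]
  exact one_mem _

/-- `InZStar` when the `p'`-core is trivial. -/
theorem central_of_inZStar {p : ℕ} {x : G} (hO : pPrimeCore p G = ⊥) (h : InZStar p x) (g : G) :
    g * x = x * g := by
  have h1 := h g
  rw [hO, mem_bot] at h1
  calc g * x = (g * x * g⁻¹ * x⁻¹) * (x * g) := by group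
    _ = x * g := by rw [h1, one_mul]

/-- `InZStar` in the quotient by the `p'`-core. -/
theorem inZStar_of_quotient [Finite G] {p : ℕ} {x : G}
    (h : InZStar p (QuotientGroup.mk x : G ⧸ pPrimeCore p G)) : InZStar p x := by
  intro g
  have h1 := h (QuotientGroup.mk g)
  rw [Lib.Cores.pPrimeCore_quotient_pPrimeCore, mem_bot] at h1
  rw [← QuotientGroup.eq_one_iff]
  simpa using h1

end Cfsg.Agent.H256.ZBasic
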